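import Groth.Agent.Lib.GenSubgrp14.Basic
import Groth.Agent.Lib.Neutral.Connected

/-!
# Connectedness of generated subgroups
-/

set_option autoImplicit false
set_option backward.isDefEq.respectTransparency false

universe u

open CategoryTheory CategoryTheory.Limits MonoidalCategory CartesianMonoidalCategory MonObj GrpObj
open AlgebraicGeometry Topology

noncomputable section

namespace GrothLib.GenSubgrp14

variable {k : Type u} [Field k] {G : Over (Spec (CommRingCat.of k))} [GrpObj G]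
  (Gen : ∀ A : Over (Spec (CommRingCat.of k)), (A ⟶ G) → Prop)
  (hGen : ∀ (A : Over (Spec (CommRingCat.of k))) (f : A ⟶ G), Gen A f → GeometricallyReduced A.hom ∧
    ConnectedSpace A.left ∧ ∃ x : 𝟙_ (Over (Spec (CommRingCat.of k))) ⟶ A, x ≫ f = η[G])

theorem eta_eq_one : η[G] = (1 : 𝟙_ (Over (Spec (CommRingCat.of k))) ⟶ G) := by
  rw [Hom.one_def, toUnit_unique (toUnit (𝟙_ (Over (Spec (CommRingCat.of k))))) (𝟙 _), Category.id_comp]

include hGen in
theorem IsWord.connected {W : Over (Spec (CommRingCat.of k))} {w : W ⟶ G} (h : IsWord Gen W w) :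
    ConnectedSpace W.left ∧ ∃ x : 𝟙_ (Over (Spec (CommRingCat.of k))) ⟶ W, x ≫ w = η[G] := by
  induction h with
  | one => exact ⟨inferInstanceAs (ConnectedSpace (PrimeSpectrum k)), 𝟙 _, Category.id_comp _⟩
  | of h => exact (hGen _ _ h).2
  | inv _ ih =>
    obtain ⟨hc, x, hx⟩ := ih
    exact ⟨hc, x, by rw [GrpObj.comp_inv, hx, eta_eq_one, _root_.inv_one]⟩
  | @mul W W' w w' _ _ ih ih' =>
    obtain ⟨hc, x, hx⟩ := ih
    obtain ⟨hc', x', hx'⟩ := ih'
    refine ⟨Neutral.connectedSpace_pullback W.hom W'.hom x.left (Over.w x), lift x x', ?_⟩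
    rw [MonObj.comp_mul, lift_fst_assoc, lift_snd_assoc, hx, hx', eta_eq_one, _root_.mul_one]

include hGen in
theorem connectedSpace_of_min (Γ : Over (Spec (CommRingCat.of k))) [GrpObj Γ] (i : Γ ⟶ G) [IsMonHom i]
    [IsClosedImmersion i.left]
    (hf : ∀ (A : Over (Spec (CommRingCat.of k))) (f : A ⟶ G), Gen A f → ∃ f' : A ⟶ Γ, f' ≫ i = f)
    (hmin : ∀ (Γ' : Over (Spec (CommRingCat.of k))) (_ : GrpObj Γ') (i' : Γ' ⟶ G), IsMonHom i' →
      IsClosedImmersion i'.left →
      (∀ (A : Over (Spec (CommRingCat.of k))) (f : A ⟶ G), Gen A f → ∃ f' : A ⟶ Γ', f' ≫ i' = f) →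
      ∃ j : Γ ⟶ Γ', j ≫ i' = i) :
    ConnectedSpace Γ.left := by
  obtain ⟨hr, -⟩ := range_eq_and_geometricallyReduced (fun A f h => (hGen A f h).1) Γ i hf hmin
  let p0 : G.left := η[G].left (IsLocalRing.closedPoint k)
  have h0 : p0 ∈ wordSet Gen := ⟨_, _, IsWord.one, _, rfl⟩
  have hT : _root_.IsConnected (wordSet Gen) := by
    refine ⟨⟨p0, h0⟩, isPreconnected_of_forall p0 ?_⟩
    rintro y ⟨W, w, hw, hy⟩
    obtain ⟨hc, x, hx⟩ := hw.connected Gen hGen
    refine ⟨Set.range w.left, fun g hg => ⟨W, w, hw, hg⟩, ⟨x.left (IsLocalRing.closedPoint k), ?_⟩, hy,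
      isPreconnected_range w.left.continuous⟩
    simp only [p0, ← Scheme.Hom.comp_apply, ← Over.comp_left, hx]
  have hcl := hT.closure
  rw [← hr] at hcl
  obtain ⟨_, y, rfl⟩ := hcl.1
  exact connectedSpace_iff_univ.2 ⟨⟨y, trivial⟩,
    i.left.isClosedEmbedding.isInducing.isPreconnected_image.mp (Set.image_univ ▸ hcl.2)⟩

end GrothLib.GenSubgrp14
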