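import Groth.Agent.Lib.GenSubgrp14.Basic
import Groth.Agent.Lib.SepAct.DenseMul
import Groth.Agent.Lib.GrpSchField.Field
import Mathlib.AlgebraicGeometry.Morphisms.FinitePresentation

/-!
# The subgroup generated by two subgroups, one normalizing the other
-/

set_option autoImplicit false
set_option backward.isDefEq.respectTransparency false

universe u

open CategoryTheory CategoryTheory.Limits MonoidalCategory CartesianMonoidalCategory MonObj GrpObj
open AlgebraicGeometry Topology Set.Notation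

noncomputable section

namespace GrothLib.GenSubgrp14

theorem interior_frontier_of_isConstructible {Y : Type*} [TopologicalSpace Y] {s : Set Y}
    (hs : IsConstructible s) : interior (frontier s) = ∅ := by
  induction hs using IsConstructible.empty_union_induction with
  | open_retrocompact U hU _ => rw [← frontier_compl]; exact interior_frontier hU.isClosed_compl
  | union s _ t _ hs ht =>
    refine Set.eq_empty_of_subset_empty (le_trans (interior_mono ((frontier_union_subset s t).trans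
      (Set.union_subset_union Set.inter_subset_left Set.inter_subset_right))) ?_)
    rw [interior_union_isClosed_of_interior_empty isClosed_frontier ht, hs]
  | compl s _ hs => rwa [frontier_compl]

/-- A dense locally constructible set has dense interior. -/
theorem dense_interior {Y : Type*} [TopologicalSpace Y] {s : Set Y} (hs : IsLocallyConstructible s)
    (hd : Dense s) : Dense (interior s) := by
  rw [interior_eq_compl_closure_compl, ← interior_eq_empty_iff_dense_compl]
  refine Set.eq_empty_of_subset_empty fun x hx => ?_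
  obtain ⟨U, hU, hUo, hUc⟩ := hs x
  have hfr : closure sᶜ ⊆ frontier s := fun y hy => by
    rw [frontier_eq_closure_inter_closure, hd.closure_eq]
    exact ⟨trivial, hy⟩
  have hx' : (⟨x, mem_of_mem_nhds hU⟩ : U) ∈ interior (frontier (U ↓∩ s)) := by
    rw [← hUo.isOpenMap_subtype_val.preimage_frontier_eq_frontier_preimage continuous_subtype_val,
      ← hUo.isOpenMap_subtype_val.preimage_interior_eq_interior_preimage continuous_subtype_val]
    exact interior_mono hfr hx
  rwa [interior_frontier_of_isConstructible hUc] at hx'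

variable {k : Type u} [Field k] {G A B : Over (Spec (CommRingCat.of k))} [GrpObj G] [GrpObj A] [GrpObj B]
  (a : A ⟶ G) [IsMonHom a] (b : B ⟶ G) [IsMonHom b]

/-- Words in two subgroups, one normalizing the other, are products. -/
theorem exists_eq_mul_of_isWord
    (hN : ∀ (T : Over (Spec (CommRingCat.of k))) (y : T ⟶ B) (x : T ⟶ A),
      ∃ x' : T ⟶ A, (y ≫ b) * (x ≫ a) * (y ≫ b)⁻¹ = x' ≫ a)
    {W : Over (Spec (CommRingCat.of k))} {w : W ⟶ G} (hw : IsWord (Two a b) W w) :
    ∃ (x : W ⟶ A) (y : W ⟶ B), w = (x ≫ a) * (y ≫ b) := by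
  induction hw with
  | one => exact ⟨1, 1, by
      simp [Hom.one_def, IsMonHom.one_hom, toUnit_unique (toUnit (𝟙_ (Over (Spec (CommRingCat.of k))))) (𝟙 _)]⟩
  | of h =>
    cases h with
    | left => exact ⟨𝟙 _, 1, by simp [MonObj.one_comp]⟩
    | right => exact ⟨1, 𝟙 _, by simp [MonObj.one_comp]⟩
  | inv _ ih =>
    obtain ⟨x, y, rfl⟩ := ih
    obtain ⟨x', hx'⟩ := hN _ y⁻¹ x⁻¹
    refine ⟨x', y⁻¹, ?_⟩
    rw [← hx', GrpObj.inv_comp, GrpObj.inv_comp, _root_.mul_inv_rev]
    group
  | @mul W W' _ _ _ _ ih ih' =>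
    obtain ⟨x, y, rfl⟩ := ih
    obtain ⟨x', y', rfl⟩ := ih'
    obtain ⟨z, hz⟩ := hN _ (fst W W' ≫ y) (snd W W' ≫ x')
    refine ⟨(fst W W' ≫ x) * z, (fst W W' ≫ y) * (snd W W' ≫ y'), ?_⟩
    rw [MonObj.mul_comp, MonObj.mul_comp, ← hz]
    simp only [MonObj.comp_mul, Category.assoc]
    group

theorem range_eq_range_mul [LocallyOfFiniteType G.hom] [Smooth A.hom] [QuasiCompact A.hom] [Smooth B.hom]
    [QuasiCompact B.hom] (hgA : GeometricallyReduced A.hom) (hgB : GeometricallyReduced B.hom)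
    (hN : ∀ (T : Over (Spec (CommRingCat.of k))) (y : T ⟶ B) (x : T ⟶ A),
      ∃ x' : T ⟶ A, (y ≫ b) * (x ≫ a) * (y ≫ b)⁻¹ = x' ≫ a)
    (Γ : Over (Spec (CommRingCat.of k))) [GrpObj Γ] (i : Γ ⟶ G) [IsMonHom i] [IsClosedImmersion i.left]
    (ha : ∃ a' : A ⟶ Γ, a' ≫ i = a) (hb : ∃ b' : B ⟶ Γ, b' ≫ i = b)
    (hmin : ∀ (Γ' : Over (Spec (CommRingCat.of k))) (_ : GrpObj Γ') (i' : Γ' ⟶ G), IsMonHom i' →
      IsClosedImmersion i'.left → (∃ a'' : A ⟶ Γ', a'' ≫ i' = a) → (∃ b'' : B ⟶ Γ', b'' ≫ i' = b) →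
      ∃ j : Γ ⟶ Γ', j ≫ i' = i) :
    IsReduced Γ.left ∧ Set.range i.left = Set.range ((fst A B ≫ a) * (snd A B ≫ b)).left := by
  obtain ⟨hr, hg⟩ := range_eq_and_geometricallyReduced (Gen := Two a b)
    (fun _ _ h => by cases h <;> assumption) Γ i (fun _ _ h => by cases h <;> assumption)
    (fun Γ' h1 i' h2 h3 h4 => hmin Γ' h1 i' h2 h3 (h4 _ _ .left) (h4 _ _ .right))
  haveI := hg
  refine ⟨isReduced_left Γ, ?_⟩
  obtain ⟨a', ha'⟩ := ha
  obtain ⟨b', hb'⟩ := hb
  let m := (fst A B ≫ a) * (snd A B ≫ b)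
  let m' := (fst A B ≫ a') * (snd A B ≫ b')
  have hm : m' ≫ i = m := by simp [m, m', MonObj.mul_comp, ha', hb']
  have hsub : wordSet (Two a b) ⊆ Set.range m.left := by
    rintro g ⟨W, w, hw, hg'⟩
    obtain ⟨x, y, rfl⟩ := exists_eq_mul_of_isWord a b hN hw
    refine range_subset_of_comp (lift x y) m ?_
    simpa [m, MonObj.comp_mul] using hg'
  have hsup : Set.range m.left ⊆ wordSet (Two a b) :=
    fun g hg' => ⟨A ⊗ B, m, IsWord.mul (.of .left) (.of .right), hg'⟩
  have hTR : wordSet (Two a b) = Set.range m.left := le_antisymm hsub hsup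
  rw [hTR] at hr
  refine le_antisymm ?_ ((range_subset_of_comp m' i).trans' (by rw [hm]))
  have hd : Dense (Set.range m'.left) := by
    rw [i.left.isClosedEmbedding.isInducing.dense_iff]
    intro y
    rw [← Set.range_comp, ← TopCat.coe_comp, ← Scheme.Hom.comp_base, ← Over.comp_left, hm]
    exact hr.le ⟨y, rfl⟩
  haveI : LocallyOfFiniteType Γ.hom := by rw [← Over.w i]; infer_instance
  haveI : LocallyOfFiniteType (A ⊗ B).hom :=
    MorphismProperty.comp_mem _ _ _ (MorphismProperty.pullback_fst (P := @LocallyOfFiniteType) A.hom B.hom inferInstance) inferInstance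
  haveI : QuasiCompact (A ⊗ B).hom :=
    MorphismProperty.comp_mem _ _ _ (MorphismProperty.pullback_fst (P := @QuasiCompact) A.hom B.hom inferInstance) inferInstance
  haveI := GrothLib.GrpSchField.isSeparated Γ
  haveI : QuasiCompact m'.left := @QuasiCompact.of_comp _ _ _ m'.left Γ.hom (by rw [Over.w m']; infer_instance) _
  haveI : IsLocallyNoetherian Γ.left := LocallyOfFiniteType.isLocallyNoetherian Γ.hom
  haveI : LocallyOfFiniteType m'.left := @locallyOfFiniteType_of_comp _ _ _ m'.left Γ.hom (by rw [Over.w m']; infer_instance)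
  have hc : IsLocallyConstructible (Set.range m'.left) :=
    Set.image_univ ▸ m'.left.isLocallyConstructible_image IsConstructible.univ.isLocallyConstructible
  let U : Γ.left.Opens := ⟨interior (Set.range m'.left), isOpen_interior⟩
  have hU : Dense (U : Set Γ.left) := dense_interior hc hd
  haveI : Subsingleton (Spec (CommRingCat.of k)) := inferInstanceAs (Subsingleton (PrimeSpectrum k))
  rintro _ ⟨γ₀, rfl⟩
  have hall : Γ.hom ⁻¹' {Γ.hom γ₀} = Set.univ := Set.eq_univ_of_forall fun _ => Subsingleton.elim _ _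
  obtain ⟨z, hz1, hz2, hz3⟩ := GrothLib.SepAct.exists_mul_mem_of_dense_fibre Γ U U U.2 γ₀
    (by rw [hall, Set.inter_univ]; exact fun w _ => hU w) (by rw [hall, Set.inter_univ]; exact fun w _ => hU w)
  obtain ⟨p2, hp2⟩ := interior_subset hz2
  obtain ⟨r, rfl⟩ := range_lift_snd Γ m' z p2 hp2.symm
  obtain ⟨p1, hp1⟩ := interior_subset hz1
  obtain ⟨r', hr'⟩ := range_lift_fst (A ⊗ B) m' r p1 (by
    rw [hp1, ← Scheme.Hom.comp_apply (Γ ◁ m').left, ← Over.comp_left, whiskerLeft_fst])
  have hw : IsWord (Two a b) ((A ⊗ B) ⊗ (A ⊗ B)) ((fst _ _ ≫ m) * (snd _ _ ≫ m)) :=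
    .mul (.mul (.of .left) (.of .right)) (.mul (.of .left) (.of .right))
  refine hsub ⟨_, _, hw, r', ?_⟩
  have hμ : μ[Γ] = fst Γ Γ * snd Γ Γ := by rw [Hom.mul_def, lift_fst_snd, Category.id_comp]
  have key : (m' ▷ (A ⊗ B)) ≫ (Γ ◁ m') ≫ μ[Γ] ≫ i = (fst _ _ ≫ m) * (snd _ _ ≫ m) := by
    rw [hμ, MonObj.mul_comp, MonObj.comp_mul, MonObj.comp_mul, whiskerLeft_fst_assoc, whiskerLeft_snd_assoc,
      whiskerRight_fst_assoc, whiskerRight_snd_assoc, hm]
  rw [← key, Over.comp_left, Over.comp_left, Over.comp_left, Scheme.Hom.comp_apply, Scheme.Hom.comp_apply,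
    Scheme.Hom.comp_apply, hr']
  exact congrArg i.left hz3

end GrothLib.GenSubgrp14
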