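import Groth.Agent.Lib.SepPts.Basic
import Groth.Agent.Lib.FBase7.Reduced
import Groth.Agent.Lib.EssFree.Subgroup
import Groth.Agent.Lib.GrpSchField.Points
import Groth.Agent.Lib.GrpSchField.HomFlat
import Groth.Agent.Lib.GrpSchField.Shear
import Groth.Agent.Lib.AlgSp.FieldBase
import Groth.Agent.Lib.RedSub.Basic

/-!
# The subgroup generated by geometrically reduced families
-/

set_option autoImplicit false
set_option backward.isDefEq.respectTransparency false

universe u

open CategoryTheory CategoryTheory.Limits MonoidalCategory CartesianMonoidalCategory MonObj GrpObj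
open AlgebraicGeometry Topology

noncomputable section

namespace GrothLib.GenSubgrp14

variable {k : Type u} [Field k] {G : Over (Spec (CommRingCat.of k))} [GrpObj G]

local notation "𝒞" => Over (Spec (CommRingCat.of k))

/-- Words in a family of generators. -/
inductive IsWord (Gen : ∀ A : Over (Spec (CommRingCat.of k)), (A ⟶ G) → Prop) :
    ∀ W : Over (Spec (CommRingCat.of k)), (W ⟶ G) → Prop
  | one : IsWord Gen (𝟙_ _) η[G]
  | of {A : Over (Spec (CommRingCat.of k))} {f : A ⟶ G} : Gen A f → IsWord Gen A f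
  | inv {W : Over (Spec (CommRingCat.of k))} {w : W ⟶ G} : IsWord Gen W w → IsWord Gen W w⁻¹
  | mul {W W' : Over (Spec (CommRingCat.of k))} {w : W ⟶ G} {w' : W' ⟶ G} :
      IsWord Gen W w → IsWord Gen W' w' → IsWord Gen (W ⊗ W') ((fst W W' ≫ w) * (snd W W' ≫ w'))

theorem geometricallyReduced_tensor (A B : 𝒞) [GeometricallyReduced A.hom] [GeometricallyReduced B.hom] :
    GeometricallyReduced (A ⊗ B).hom :=
  GrothLib.FBase7.geometricallyReduced_comp A.hom B.hom

theorem isReduced_left (A : 𝒞) [GeometricallyReduced A.hom] : IsReduced A.left :=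
  haveI := GrothLib.AlgSp.flat_to_field A.hom
  GeometricallyReduced.isReduced_of_flat_of_isLocallyNoetherian A.hom

theorem exists_maximal {Y : Scheme.{u}} (x : Y) : ∃ ζ : Y, ζ ⤳ x ∧ ∀ z, z ⤳ ζ → z = ζ := by
  obtain ⟨ζ, hζ⟩ := QuasiSober.sober (isIrreducible_irreducibleComponent (x := x))
    isClosed_irreducibleComponent
  refine ⟨ζ, hζ.specializes mem_irreducibleComponent, fun z hz ↦ ?_⟩
  have hsub : irreducibleComponent x ⊆ closure {z} := by
    rw [← hζ.def]; exact closure_minimal (Set.singleton_subset_iff.mpr hz.mem_closure) isClosed_closure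
  have heq := (irreducibleComponent_mem_irreducibleComponents x).2
    (isIrreducible_singleton (x := z)).closure hsub
  have hζz : ζ ⤳ z := specializes_iff_mem_closure.2 (hζ.def ▸ heq (subset_closure (Set.mem_singleton z)))
  exact (hz.antisymm hζz).eq

theorem range_lift_snd (A : 𝒞) {C D : 𝒞} (l : C ⟶ D) (q : (A ⊗ D).left) (p : C.left)
    (h : (snd A D).left q = l.left p) : ∃ r : (A ⊗ C).left, (A ◁ l).left r = q := by
  obtain ⟨r, hr, -⟩ := Scheme.exists_preimage_of_isPullback
    (GrothLib.GrpSchField.whiskerLeft_snd_isPullback A l) q p h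
  exact ⟨r, hr⟩

theorem range_lift_fst (A : 𝒞) {C D : 𝒞} (l : C ⟶ D) (q : (D ⊗ A).left) (p : C.left)
    (h : (fst D A).left q = l.left p) : ∃ r : (C ⊗ A).left, (l ▷ A).left r = q := by
  obtain ⟨r, hr, -⟩ := Scheme.exists_preimage_of_isPullback
    ((GrothLib.GrpSchField.isPullback_whiskerRight l A).map (Over.forget _)) q p h
  exact ⟨r, hr⟩

theorem isOpenMap_snd (A B : 𝒞) : IsOpenMap (snd A B).left := by
  haveI := GrothLib.AlgSp.universallyOpen_to_field A.hom
  haveI : UniversallyOpen (snd A B).left := MorphismProperty.pullback_snd (P := @UniversallyOpen) A.hom B.hom ‹_›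
  exact (snd A B).left.isOpenMap

theorem isOpenMap_fst (A B : 𝒞) : IsOpenMap (fst A B).left := by
  haveI := GrothLib.AlgSp.universallyOpen_to_field B.hom
  haveI : UniversallyOpen (fst A B).left := MorphismProperty.pullback_fst (P := @UniversallyOpen) A.hom B.hom ‹_›
  exact (fst A B).left.isOpenMap

variable (Gen : ∀ A : Over (Spec (CommRingCat.of k)), (A ⟶ G) → Prop)
  (hGen : ∀ (A : Over (Spec (CommRingCat.of k))) (f : A ⟶ G), Gen A f → GeometricallyReduced A.hom)

include hGen in
theorem IsWord.geometricallyReduced {W : 𝒞} {w : W ⟶ G} (h : IsWord Gen W w) :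
    GeometricallyReduced W.hom := by
  induction h with
  | one =>
    change GeometricallyReduced (𝟙 (Spec (CommRingCat.of k)))
    rw [GrothLib.CurveLocus.geometricallyReduced_iff]
    intro Ω _ _ t X' i q hsq
    haveI : IsIso q := hsq.isIso_snd_of_isIso
    exact isReduced_of_isOpenImmersion q
  | of h => exact hGen _ _ h
  | inv _ ih => exact ih
  | mul _ _ ih ih' => exact @geometricallyReduced_tensor k _ _ _ ih ih'

/-- The points of the words. -/
def wordSet : Set G.left := {g | ∃ (W : 𝒞) (w : W ⟶ G), IsWord Gen W w ∧ g ∈ Set.range w.left}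

/-- A geometrically reduced closed subgroup whose points are the closure of the words. -/
structure Envelope where
  Z : Over (Spec (CommRingCat.of k))
  grp : GrpObj Z
  z : Z ⟶ G
  isMonHom : @IsMonHom _ _ _ Z G grp.toMonObj _ z
  isClosedImmersion : IsClosedImmersion z.left
  geometricallyReduced : GeometricallyReduced Z.hom
  range_eq : Set.range z.left = closure (wordSet Gen)
  lift_word : ∀ (W : Over (Spec (CommRingCat.of k))) (w : W ⟶ G), IsWord Gen W w → ∃ l : W ⟶ Z, l ≫ z = w

include hGen in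
theorem nonempty_envelope : Nonempty (Envelope Gen) := by
  classical
  let Zc : TopologicalSpace.Closeds G.left := ⟨closure (wordSet Gen), isClosed_closure⟩
  let J := Scheme.IdealSheafData.vanishingIdeal Zc
  let Z : 𝒞 := Over.mk (J.subschemeι ≫ G.hom)
  let z : Z ⟶ G := Over.homMk J.subschemeι rfl
  have hzr : Set.range z.left = closure (wordSet Gen) := RedSub.range_subschemeι_vanishingIdeal Zc
  haveI : IsReduced Z.left := RedSub.isReduced_subscheme_vanishingIdeal Zc
  haveI : IsClosedImmersion z.left := inferInstanceAs (IsClosedImmersion J.subschemeι)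
  haveI : Mono z := by
    haveI : Mono z.left := inferInstance
    exact Over.mono_of_mono_left z
  have liftZ : ∀ (T : 𝒞) (h : T ⟶ G), IsReduced T.left → Set.range h.left ⊆ closure (wordSet Gen) →
      ∃ l : T ⟶ Z, l ≫ z = h := by
    intro T h _ hr
    obtain ⟨l, hl⟩ := RedSub.exists_lift h.left z.left (hr.trans hzr.ge)
    refine ⟨Over.homMk l ?_, Over.OverMorphism.ext hl⟩
    change l ≫ J.subschemeι ≫ G.hom = T.hom
    rw [← Category.assoc]
    erw [hl]
    exact Over.w h
  have hword : ∀ (W : 𝒞) (w : W ⟶ G), IsWord Gen W w → ∃ l : W ⟶ Z, l ≫ z = w := fun W w h =>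
    haveI := h.geometricallyReduced Gen hGen
    liftZ W w (isReduced_left W) (fun g hg => subset_closure ⟨W, w, h, hg⟩)
  -- the preimage of the words is dense in `Z`
  have hD : Dense (z.left ⁻¹' wordSet Gen) := by
    rw [z.left.isClosedEmbedding.isInducing.dense_iff]
    intro y
    rw [Set.image_preimage_eq_of_subset]
    · exact hzr.le ⟨y, rfl⟩
    · rintro g hg
      exact hzr.ge (subset_closure hg)
  haveI : GeometricallyReduced Z.hom := by
    let D : Set Z.left := {ζ | ∃ (W : 𝒞) (w : W ⟶ G) (_ : IsWord Gen W w) (l : W ⟶ Z) (e0 : W.left),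
      l ≫ z = w ∧ (∀ v, v ⤳ e0 → v = e0) ∧ l.left e0 = ζ}
    have hDd : Dense D := by
      refine fun y => closure_minimal ?_ isClosed_closure (hD y)
      rintro t ⟨W, w, h, p, hp⟩
      obtain ⟨l, hl⟩ := hword W w h
      obtain ⟨e0, hηp, hη⟩ := exists_maximal p
      have ht : l.left p = t := z.left.isClosedEmbedding.injective (by
        rw [← Scheme.Hom.comp_apply, ← Over.comp_left, hl, hp])
      have hD' : l.left e0 ∈ D := ⟨W, w, h, l, e0, hl, hη, rfl⟩
      exact ht ▸ (hηp.map l.left.continuous).mem_closed isClosed_closure (subset_closure hD')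
    refine SepPts.geometricallyReduced_of_dense Z.hom hDd ?_
    rintro ζ ⟨W, w, h, l, e0, hl, hη, rfl⟩
    haveI := h.geometricallyReduced Gen hGen
    obtain ⟨k', _, _, _, x, hx, s, hs⟩ := SepPts.isSepPt_of_maximal W.hom hη
    refine ⟨k', inferInstance, inferInstance, inferInstance, x ≫ l.left, ?_, s, ?_⟩
    · rw [Category.assoc, Over.w l]; exact hx
    · rw [Scheme.Hom.comp_apply, hs]
  have hmem : ∀ (A : 𝒞) (h : A ⟶ G) {T : Set A.left}, Dense T →
      (∀ q ∈ T, h.left q ∈ closure (wordSet Gen)) → Set.range h.left ⊆ closure (wordSet Gen) := by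
    rintro A h T hT hq _ ⟨y, rfl⟩
    exact closure_minimal hq (isClosed_closure.preimage h.left.continuous) (hT y)
  have h1 : ∀ (W : 𝒞) (w : W ⟶ G), IsWord Gen W w →
      Set.range ((fst W Z ≫ w) * (snd W Z ≫ z)).left ⊆ closure (wordSet Gen) := by
    intro W w h
    refine hmem _ _ (hD.preimage (isOpenMap_snd W Z)) ?_
    rintro q ⟨W', w', h', p, hp⟩
    obtain ⟨l, hl⟩ := hword W' w' h'
    obtain ⟨r, rfl⟩ := range_lift_snd W l q p (z.left.isClosedEmbedding.injective (by
      rw [← hp, ← Scheme.Hom.comp_apply l.left, ← Over.comp_left, hl]))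
    refine subset_closure ⟨W ⊗ W', _, h.mul h', r, ?_⟩
    rw [← Scheme.Hom.comp_apply, ← Over.comp_left, MonObj.comp_mul, whiskerLeft_fst_assoc,
      whiskerLeft_snd_assoc, hl]
  have h2 : Set.range ((fst Z Z ≫ z) * (snd Z Z ≫ z)).left ⊆ closure (wordSet Gen) := by
    refine hmem _ _ (hD.preimage (isOpenMap_fst Z Z)) ?_
    rintro q ⟨W, w, h, p, hp⟩
    obtain ⟨l, hl⟩ := hword W w h
    obtain ⟨r, rfl⟩ := range_lift_fst Z l q p (z.left.isClosedEmbedding.injective (by
      rw [← hp, ← Scheme.Hom.comp_apply l.left, ← Over.comp_left, hl]))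
    refine h1 W w h ⟨r, ?_⟩
    rw [← Scheme.Hom.comp_apply, ← Over.comp_left, MonObj.comp_mul, whiskerRight_fst_assoc,
      whiskerRight_snd_assoc, hl]
  have h3 : Set.range (z⁻¹).left ⊆ closure (wordSet Gen) := by
    refine hmem _ _ hD ?_
    rintro y ⟨W, w, h, p, hp⟩
    obtain ⟨l, hl⟩ := hword W w h
    have hy : l.left p = y := z.left.isClosedEmbedding.injective (by
      rw [← Scheme.Hom.comp_apply, ← Over.comp_left, hl, hp])
    refine subset_closure ⟨W, _, h.inv, p, ?_⟩
    rw [← hy, ← Scheme.Hom.comp_apply l.left, ← Over.comp_left, GrpObj.comp_inv, hl]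
  haveI := geometricallyReduced_tensor Z Z
  obtain ⟨m, hm⟩ := liftZ (Z ⊗ Z) _ (isReduced_left _) h2
  obtain ⟨v, hv⟩ := liftZ Z _ inferInstance h3
  obtain ⟨e, he⟩ := hword _ _ IsWord.one
  obtain ⟨grp, hmon⟩ := GrothLib.EssFree.exists_grpObj_of_mono z
    (fun T => ⟨toUnit T ≫ e, by rw [Category.assoc, he, Hom.one_def]⟩)
    (fun T a b => ⟨lift a b ≫ m, by
      rw [Category.assoc, hm, MonObj.comp_mul, lift_fst_assoc, lift_snd_assoc]⟩)
    (fun T a => ⟨a ≫ v, by rw [Category.assoc, hv, GrpObj.comp_inv]⟩)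
  exact ⟨⟨Z, grp, z, hmon, inferInstance, inferInstance, hzr, hword⟩⟩

variable {Gen}

/-- A subgroup receiving all generators receives all words. -/
theorem IsWord.lift_of_gen {Γ : 𝒞} [GrpObj Γ] (i : Γ ⟶ G) [IsMonHom i]
    (h : ∀ (A : Over (Spec (CommRingCat.of k))) (f : A ⟶ G), Gen A f → ∃ f' : A ⟶ Γ, f' ≫ i = f)
    {W : 𝒞} {w : W ⟶ G} (hw : IsWord Gen W w) : ∃ w' : W ⟶ Γ, w' ≫ i = w := by
  induction hw with
  | one => exact ⟨η[Γ], IsMonHom.one_hom i⟩
  | of hf => exact h _ _ hf
  | inv _ ih =>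
    obtain ⟨a, ha⟩ := ih
    exact ⟨a⁻¹, by rw [GrpObj.inv_comp, ha]⟩
  | mul _ _ ih ih' =>
    obtain ⟨a, ha⟩ := ih
    obtain ⟨b, hb⟩ := ih'
    exact ⟨(fst _ _ ≫ a) * (snd _ _ ≫ b), by rw [MonObj.mul_comp, Category.assoc, Category.assoc, ha, hb]⟩

theorem range_subset_of_comp {A B C : 𝒞} (f : A ⟶ B) (g : B ⟶ C) :
    Set.range (f ≫ g).left ⊆ Set.range g.left := by
  rintro _ ⟨y, rfl⟩
  exact ⟨f.left y, by rw [← Scheme.Hom.comp_apply, ← Over.comp_left]⟩

include hGen in
/-- The smallest closed subgroup receiving the generators is the envelope. -/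
theorem range_eq_and_geometricallyReduced (Γ : 𝒞) [GrpObj Γ] (i : Γ ⟶ G) [IsMonHom i]
    [IsClosedImmersion i.left]
    (hf : ∀ (A : Over (Spec (CommRingCat.of k))) (f : A ⟶ G), Gen A f → ∃ f' : A ⟶ Γ, f' ≫ i = f)
    (hmin : ∀ (Γ' : Over (Spec (CommRingCat.of k))) (_ : GrpObj Γ') (i' : Γ' ⟶ G), IsMonHom i' →
      IsClosedImmersion i'.left →
      (∀ (A : Over (Spec (CommRingCat.of k))) (f : A ⟶ G), Gen A f → ∃ f' : A ⟶ Γ', f' ≫ i' = f) →
      ∃ j : Γ ⟶ Γ', j ≫ i' = i) :
    Set.range i.left = closure (wordSet Gen) ∧ GeometricallyReduced Γ.hom := by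
  obtain ⟨E⟩ := nonempty_envelope Gen hGen
  let _ := E.grp
  haveI := E.isClosedImmersion
  haveI := E.geometricallyReduced
  obtain ⟨j, hj⟩ := hmin E.Z E.grp E.z E.isMonHom E.isClosedImmersion fun A f h => E.lift_word A f (.of h)
  have hr : Set.range i.left = closure (wordSet Gen) := by
    refine le_antisymm ?_ (closure_minimal ?_ i.left.isClosedEmbedding.isClosed_range)
    · rw [← E.range_eq, ← hj]
      exact range_subset_of_comp j E.z
    · rintro g ⟨W, w, hw, hg⟩
      obtain ⟨w', rfl⟩ := hw.lift_of_gen i hf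
      exact range_subset_of_comp w' i hg
  refine ⟨hr, ?_⟩
  haveI := isReduced_left E.Z
  obtain ⟨l, hl⟩ := RedSub.exists_lift E.z.left i.left (E.range_eq.le.trans hr.ge)
  haveI : Mono E.z.left := inferInstance
  haveI : Mono i.left := inferInstance
  haveI : IsIso j.left := ⟨l, by
    rw [← cancel_mono i.left, Category.assoc, hl, ← Over.comp_left, hj, Category.id_comp],
    by rw [← cancel_mono E.z.left, Category.assoc, ← Over.comp_left, hj, hl, Category.id_comp]⟩
  rw [← Over.w j]
  exact (MorphismProperty.cancel_left_of_respectsIso @GeometricallyReduced j.left E.Z.hom).2 inferInstance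

end GrothLib.GenSubgrp14

namespace GrothLib.GenSubgrp14

variable {k : Type u} [Field k] {G : Over (Spec (CommRingCat.of k))}

/-- The family with the single member `f`. -/
inductive Single {Y : Over (Spec (CommRingCat.of k))} (f : Y ⟶ G) :
    ∀ A : Over (Spec (CommRingCat.of k)), (A ⟶ G) → Prop
  | mk : Single f Y f

/-- The family with the two members `a` and `b`. -/
inductive Two {A₀ B₀ : Over (Spec (CommRingCat.of k))} (a : A₀ ⟶ G) (b : B₀ ⟶ G) :
    ∀ A : Over (Spec (CommRingCat.of k)), (A ⟶ G) → Prop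
  | left : Two a b A₀ a
  | right : Two a b B₀ b

theorem exists_over_lift {Z Γ : Over (Spec (CommRingCat.of k))} [GeometricallyReduced Z.hom]
    (z : Z ⟶ G) (i : Γ ⟶ G) [IsClosedImmersion i.left] (h : Set.range z.left ⊆ Set.range i.left) :
    ∃ j : Z ⟶ Γ, j ≫ i = z := by
  haveI := isReduced_left Z
  obtain ⟨l, hl⟩ := RedSub.exists_lift z.left i.left h
  refine ⟨Over.homMk l ?_, Over.OverMorphism.ext hl⟩
  rw [← Over.w i]
  erw [← Category.assoc, hl]
  exact Over.w z

end GrothLib.GenSubgrp14
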