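import Groth.Agent.Lib.GenSubgrp14.Basic
import Groth.Agent.Lib.AlgSp.FieldBase
import Groth.Agent.S3015
import Mathlib

/-!
# Base change of generated subgroups
-/

set_option autoImplicit false
set_option backward.isDefEq.respectTransparency false
set_option linter.style.haveILetI false

universe u

open CategoryTheory CategoryTheory.Limits MonoidalCategory CartesianMonoidalCategory MonObj GrpObj
open AlgebraicGeometry Topology
open scoped TensorProduct

noncomputable section

namespace GrothLib.GenSubgrp14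

variable {k : Type u} [Field k]

/-- Jointly injective linear maps stay so after tensoring over a field. -/
theorem tensor_eq_zero {V B : Type u} [AddCommGroup V] [Module k V] [AddCommGroup B] [Module k B] {J : Type*}
    {C : J → Type u} [∀ j, AddCommGroup (C j)] [∀ j, Module k (C j)] (g : ∀ j, B →ₗ[k] C j)
    (hg : ∀ b, (∀ j, g j b = 0) → b = 0) (z : V ⊗[k] B) (hz : ∀ j, (g j).lTensor V z = 0) : z = 0 := by
  classical
  let v := Module.Free.chooseBasis k V
  let e := TensorProduct.equivFinsuppOfBasisLeft (N := B) v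
  have hnat : ∀ (j) (z : V ⊗[k] B) (i), TensorProduct.equivFinsuppOfBasisLeft (N := C j) v ((g j).lTensor V z) i =
      g j (e z i) := by
    intro j z i
    induction z using TensorProduct.induction_on with
    | zero => simp
    | add a b ha hb => simp only [map_add, Finsupp.add_apply, ha, hb]
    | tmul a b => simp [e]
  apply e.injective
  rw [map_zero]
  refine Finsupp.ext fun i => hg _ fun j => ?_
  rw [← hnat, hz j, map_zero, Finsupp.zero_apply]

/-- The affine pieces of the schematic density. -/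
theorem isIso_chart {X S E : Scheme.{u}} [IsReduced X] (x : X ⟶ Spec (CommRingCat.of k))
    (σ : S ⟶ Spec (CommRingCat.of k)) (e : E ⟶ pullback x σ) [IsClosedImmersion e]
    {J : Type u} (K : J → Type u) [∀ j, Field (K j)] (t : ∀ j, Spec (CommRingCat.of (K j)) ⟶ X)
    (hd : Dense {p : X | ∃ j, p ∈ Set.range (t j)})
    (h : ∀ (j) (T : Scheme.{u}) (a : T ⟶ Spec (CommRingCat.of (K j))) (b : T ⟶ S) (w : (a ≫ t j) ≫ x = b ≫ σ),
      ∃ l : T ⟶ E, l ≫ e = pullback.lift (a ≫ t j) b w)
    (B R : CommRingCat.{u}) (p : Spec B ⟶ X) [IsOpenImmersion p] (q : Spec R ⟶ S) :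
    IsIso (pullback.snd e (pullback.map (p ≫ x) (q ≫ σ) x σ p q (𝟙 _) (Category.comp_id _) (Category.comp_id _))) := by
  obtain ⟨α, hα⟩ := Spec.map_surjective (p ≫ x)
  obtain ⟨β, hβ⟩ := Spec.map_surjective (q ≫ σ)
  letI : Algebra k B := α.hom.toAlgebra
  letI : Algebra k R := β.hom.toAlgebra
  let i₁ : pullback (p ≫ x) (q ≫ σ) ≅ Spec (CommRingCat.of (B ⊗[k] R)) :=
    pullback.congrHom hα.symm hβ.symm ≪≫ pullbackSpecIso k B R
  let ι₀ : Spec (CommRingCat.of (B ⊗[k] R)) ⟶ pullback x σ :=
    i₁.inv ≫ pullback.map (p ≫ x) (q ≫ σ) x σ p q (𝟙 _) (Category.comp_id _) (Category.comp_id _)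
  have hι₀f : ι₀ ≫ pullback.fst x σ = Spec.map (CommRingCat.ofHom Algebra.TensorProduct.includeLeftRingHom) ≫ p := by
    simp only [ι₀, i₁, Iso.trans_inv, Category.assoc, pullback.map, pullback.lift_fst, pullback.congrHom_inv]
    erw [pullback.lift_fst_assoc]
    simp
    exact pullbackSpecIso_inv_fst_assoc k B R p
  have hι₀s : ι₀ ≫ pullback.snd x σ =
      Spec.map (CommRingCat.ofHom (Algebra.TensorProduct.includeRight (R := k) (A := B) (B := R)).toRingHom) ≫ q := by
    simp only [ι₀, i₁, Iso.trans_inv, Category.assoc, pullback.map, pullback.lift_snd, pullback.congrHom_inv]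
    erw [pullback.lift_snd_assoc]
    simp
    exact pullbackSpecIso_inv_snd_assoc k B R q
  let F := pullback e ι₀
  let f : F ⟶ Spec (CommRingCat.of (B ⊗[k] R)) := pullback.snd e ι₀
  obtain ⟨φ, eF, hfac⟩ : ∃ (I : Ideal (B ⊗[k] R)) (eF : F ≅ Spec (CommRingCat.of ((B ⊗[k] R) ⧸ I))),
      eF.hom ≫ Spec.map (CommRingCat.ofHom (Ideal.Quotient.mk I)) = f := by
    haveI : IsClosedImmersion f := MorphismProperty.pullback_snd (P := @IsClosedImmersion) _ _ inferInstance
    obtain ⟨I, eF, hfac⟩ := IsClosedImmersion.Spec_iff.mp ‹IsClosedImmersion f›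
    exact ⟨I, eF, hfac.symm⟩
  suffices hI : φ = ⊥ by
    have hmk : Function.Bijective (Ideal.Quotient.mk φ) :=
      ⟨(RingHom.injective_iff_ker_eq_bot _).2 (Ideal.mk_ker.trans hI), Ideal.Quotient.mk_surjective⟩
    haveI : IsIso f := by
      rw [← hfac]
      haveI : IsIso (CommRingCat.ofHom (Ideal.Quotient.mk φ)) := (ConcreteCategory.isIso_iff_bijective _).2 hmk
      infer_instance
    have hc : pullback.map (p ≫ x) (q ≫ σ) x σ p q (𝟙 _) (Category.comp_id _) (Category.comp_id _) = i₁.hom ≫ ι₀ := by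
      simp [ι₀]
    rw [show pullback.snd e (pullback.map (p ≫ x) (q ≫ σ) x σ p q (𝟙 _) (Category.comp_id _) (Category.comp_id _)) =
      (pullback.congrHom rfl hc).hom ≫ pullback.snd e (i₁.hom ≫ ι₀) by simp]
    haveI : IsIso (pullback.snd e (i₁.hom ≫ ι₀)) := by
      rw [show pullback.snd e (i₁.hom ≫ ι₀) = (pullbackLeftPullbackSndIso e ι₀ i₁.hom).inv ≫
        pullback.snd (pullback.snd e ι₀) i₁.hom by simp]
      infer_instance
    infer_instance
  haveI : _root_.IsReduced B := by
    haveI : IsReduced (Spec B) := isReduced_of_isOpenImmersion p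
    exact (affine_isReduced_iff B).mp inferInstance
  refine eq_bot_iff.2 fun z hz => (Submodule.mem_bot _).2 ?_
  let J' := {j : J // Set.range (t j) ⊆ Set.range p}
  let u : ∀ j : J', Spec (CommRingCat.of (K j.1)) ⟶ Spec B := fun j => IsOpenImmersion.lift p (t j.1) j.2
  choose χ hχ using fun j : J' => Spec.map_surjective (u j)
  letI : ∀ j : J', Algebra k (K j.1) := fun j => ((χ j).hom.comp α.hom).toAlgebra
  let g : ∀ j : J', B →ₐ[k] K j.1 := fun j => { (χ j).hom with commutes' := fun _ => rfl }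
  have hgker : ∀ b : B, (∀ j, g j b = 0) → b = 0 := by
    intro b hb
    refine IsReduced.eq_zero b ?_
    rw [← PrimeSpectrum.basicOpen_eq_bot_iff]
    by_contra hne
    obtain ⟨w, hw⟩ := (TopologicalSpace.Opens.ne_bot_iff_nonempty _).1 hne
    obtain ⟨_, ⟨w', hw', rfl⟩, j, ξ, hξ⟩ := hd.inter_open_nonempty (p '' (PrimeSpectrum.basicOpen b : Set (PrimeSpectrum B)))
      (p.isOpenEmbedding.isOpenMap _ (PrimeSpectrum.basicOpen b).2) ⟨_, w, hw, rfl⟩
    have hj : Set.range (t j) ⊆ Set.range p := by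
      rintro _ ⟨ξ', rfl⟩
      obtain rfl : ξ' = ξ := Subsingleton.elim (α := PrimeSpectrum (K j)) _ _
      exact ⟨w', hξ.symm⟩
    have hu : u ⟨j, hj⟩ ξ = w' := p.isOpenEmbedding.injective (by
      rw [← Scheme.Hom.comp_apply, IsOpenImmersion.lift_fac, hξ])
    refine hw' ?_
    rw [← hu, ← hχ ⟨j, hj⟩]
    show (χ ⟨j, hj⟩).hom b ∈ (ξ : PrimeSpectrum (K j)).asIdeal
    have hb' : (χ ⟨j, hj⟩).hom b = 0 := hb ⟨j, hj⟩
    rw [hb']
    exact zero_mem _
  have key : ∀ j, (Algebra.TensorProduct.map (g j) (AlgHom.id k R)) z = 0 := by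
    intro j
    let m : B ⊗[k] R →+* K j.1 ⊗[k] R := (Algebra.TensorProduct.map (g j) (AlgHom.id k R)).toRingHom
    let T := Spec (CommRingCat.of (K j.1 ⊗[k] R))
    let a' : T ⟶ Spec (CommRingCat.of (K j.1)) := Spec.map (CommRingCat.ofHom Algebra.TensorProduct.includeLeftRingHom)
    let M : T ⟶ Spec (CommRingCat.of (B ⊗[k] R)) := Spec.map (CommRingCat.ofHom m)
    have hM1 : M ≫ ι₀ ≫ pullback.fst x σ = a' ≫ t j.1 := by
      rw [hι₀f, ← IsOpenImmersion.lift_fac p (t j.1) j.2, show IsOpenImmersion.lift p (t j.1) j.2 = u j from rfl,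
        ← hχ j, ← Category.assoc, ← Category.assoc]
      congr 1
      simp only [M, a', ← Spec.map_comp]
      congr 1
    have w : (a' ≫ t j.1) ≫ x = (M ≫ ι₀ ≫ pullback.snd x σ) ≫ σ := by
      rw [← hM1]
      simp only [ι₀, Category.assoc, pullback.condition]
    obtain ⟨l, hl⟩ := h j.1 T a' _ w
    have hl' : l ≫ e = M ≫ ι₀ := by
      rw [hl]
      apply pullback.hom_ext
      · rw [pullback.lift_fst, Category.assoc, hM1]
      · rw [pullback.lift_snd]
        simp only [ι₀, Category.assoc]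
    let L : T ⟶ Spec (CommRingCat.of ((B ⊗[k] R) ⧸ φ)) := pullback.lift l M hl' ≫ eF.hom
    have hL : L ≫ Spec.map (CommRingCat.ofHom (Ideal.Quotient.mk φ)) = M := by
      rw [Category.assoc, hfac]
      exact pullback.lift_snd _ _ _
    obtain ⟨ψ, hψ⟩ := Spec.map_surjective L
    rw [← hψ, ← Spec.map_comp] at hL
    have := congrArg (fun r : CommRingCat.of (B ⊗[k] R) ⟶ CommRingCat.of (K j.1 ⊗[k] R) => r z) (Spec.map_injective hL)
    change ψ (Ideal.Quotient.mk φ z) = m z at this
    rw [Ideal.Quotient.eq_zero_iff_mem.2 hz, map_zero] at this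
    exact this.symm
  apply (TensorProduct.comm k B R).injective
  rw [map_zero]
  refine tensor_eq_zero (fun j => (g j).toLinearMap) hgker _ fun j => ?_
  rw [show (g j).toLinearMap.lTensor R (TensorProduct.comm k B R z) =
    TensorProduct.comm k (K j.1) R (Algebra.TensorProduct.map (g j) (AlgHom.id k R) z) from ?_, key j, map_zero]
  clear key hz
  induction z using TensorProduct.induction_on with
  | zero => simp
  | add a b ha hb => simp only [map_add, ha, hb]
  | tmul a b => simp

/-- Field valued points with dense images stay schematically dense after base change. -/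
theorem isIso_of_fields {X S E : Scheme.{u}} [IsReduced X] (x : X ⟶ Spec (CommRingCat.of k))
    (σ : S ⟶ Spec (CommRingCat.of k)) (e : E ⟶ pullback x σ) [IsClosedImmersion e]
    {J : Type u} (K : J → Type u) [∀ j, Field (K j)] (t : ∀ j, Spec (CommRingCat.of (K j)) ⟶ X)
    (hd : Dense {p : X | ∃ j, p ∈ Set.range (t j)})
    (h : ∀ (j) (T : Scheme.{u}) (a : T ⟶ Spec (CommRingCat.of (K j))) (b : T ⟶ S) (w : (a ≫ t j) ≫ x = b ≫ σ),
      ∃ l : T ⟶ E, l ≫ e = pullback.lift (a ≫ t j) b w) : IsIso e := by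
  change MorphismProperty.isomorphisms Scheme e
  rw [IsZariskiLocalAtTarget.iff_of_openCover (P := MorphismProperty.isomorphisms Scheme)
    (Scheme.Pullback.openCoverOfLeftRight X.affineCover S.affineCover x σ)]
  rintro ⟨a, b⟩
  exact isIso_chart x σ e K t hd h _ _ (X.affineCover.f a) (S.affineCover.f b)

/-- An immersed subgroup with dense image over a field is everything. -/
theorem surjective_of_dense {Γ P : Over (Spec (CommRingCat.of k))} [GrpObj Γ] [GrpObj P] (l : P ⟶ Γ) [IsMonHom l]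
    [IsImmersion l.left] (h : Dense (Set.range l.left)) : Surjective l.left := by
  obtain ⟨U, C, hU, hC, hr⟩ := l.left.isLocallyClosed_range
  have hsub : U ⊆ Set.range l.left := fun z hz => by
    rw [hr]
    refine ⟨hz, ?_⟩
    exact hC.closure_eq ▸ (h.mono (hr.le.trans Set.inter_subset_right)) z
  have hUd : Dense U := h.mono (hr.le.trans Set.inter_subset_left)
  refine ⟨fun g => ?_⟩
  obtain ⟨z, hz1, hz2, hz3⟩ := Groth.Agent.S3015.result k Γ ⟨U, hU⟩ ⟨U, hU⟩ hUd hUd g
  obtain ⟨a, ha⟩ := hsub hz1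
  obtain ⟨b, hb⟩ := hsub hz2
  obtain ⟨r, hr'⟩ := range_lift_snd Γ l z b hb.symm
  have h1 : (fst Γ P).left r = l.left a := by
    rw [ha]
    show (fst Γ P).left r = (fst Γ Γ).left z
    rw [← hr', ← Scheme.Hom.comp_apply, ← Over.comp_left, whiskerLeft_fst]
  obtain ⟨r', hr''⟩ := range_lift_fst P l r a h1
  refine ⟨μ[P].left r', ?_⟩
  rw [← hz3, ← hr', ← hr'', ← Scheme.Hom.comp_apply, ← Over.comp_left, IsMonHom.mul_hom, MonoidalCategory.tensorHom_def]
  rfl

end GrothLib.GenSubgrp14
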