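import Groth.Agent.Lib.EtBasicB.ArtinianFt
import Groth.Agent.Lib.Hensel.Noetherian
import Mathlib.RingTheory.Jacobson.Artinian

/-!
# One-point rings below algebras of finite type over a field are finite
-/

set_option autoImplicit false

universe u

namespace GrothLib.GenSubgrp14

theorem finite_of_ff_finiteType {k B C : Type u} [Field k] [CommRing B] [CommRing C] (α : k →+* B)
    (β : B →+* C) (hft : (β.comp α).FiniteType) (hfl : β.Flat)
    (hB : Subsingleton (PrimeSpectrum B)) (hC : Nontrivial C) : α.Finite := by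
  algebraize [α, β, β.comp α]
  haveI : Nontrivial B := β.domain_nontrivial
  haveI : Module.FaithfullyFlat B C := Module.FaithfullyFlat.of_comap_surjective fun q =>
    ⟨(Classical.arbitrary (PrimeSpectrum C)), Subsingleton.elim _ _⟩
  haveI : IsNoetherianRing C := Algebra.FiniteType.isNoetherianRing k C
  haveI : IsNoetherianRing B := GrothLib.Hensel.isNoetherianRing_of_faithfullyFlat B C
  haveI : IsLocalRing B := IsLocalRing.of_unique_max_ideal <| by
    obtain ⟨M, hM⟩ := Ideal.exists_maximal B
    exact ⟨M, hM, fun N hN => congrArg PrimeSpectrum.asIdeal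
      (Subsingleton.elim (⟨N, hN.isPrime⟩ : PrimeSpectrum B) ⟨M, hM.isPrime⟩)⟩
  haveI : Ring.KrullDimLE 0 B := Ring.krullDimLE_zero_iff.2 fun I hI => by
    have : I = IsLocalRing.maximalIdeal B := congrArg PrimeSpectrum.asIdeal
      (Subsingleton.elim (⟨I, hI⟩ : PrimeSpectrum B) ⟨IsLocalRing.maximalIdeal B, inferInstance⟩)
    exact this ▸ inferInstance
  haveI : IsArtinianRing B := isArtinianRing_iff_isNoetherianRing_krullDimLE_zero.2 ⟨inferInstance, inferInstance⟩
  obtain ⟨Q, hQ⟩ := Ideal.exists_maximal C
  letI : Field (C ⧸ Q) := Ideal.Quotient.field Q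
  haveI : Module.Finite k (C ⧸ Q) := finite_of_finite_type_of_isJacobsonRing k (C ⧸ Q)
  have hq : Q.comap (algebraMap B C) = IsLocalRing.maximalIdeal B := congrArg PrimeSpectrum.asIdeal
    (Subsingleton.elim (⟨_, hQ.isPrime.comap (algebraMap B C)⟩ : PrimeSpectrum B)
      ⟨IsLocalRing.maximalIdeal B, inferInstance⟩)
  let ι : IsLocalRing.ResidueField B →ₐ[k] C ⧸ Q :=
    { Ideal.quotientMap Q (algebraMap B C) hq.ge with
      commutes' := fun c => by
        change Ideal.Quotient.mk Q (algebraMap B C (algebraMap k B c)) = _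
        rw [← IsScalarTower.algebraMap_apply]; rfl }
  haveI : Module.Finite k (IsLocalRing.ResidueField B) :=
    FiniteDimensional.of_injective ι.toLinearMap ι.toRingHom.injective
  haveI : Algebra.FiniteType k B := GrothLib.EtBasicB.finiteType_of_residue k B
    (RingHom.Finite.finiteType (RingHom.finite_algebraMap.2 ‹_› :
      (algebraMap k (IsLocalRing.ResidueField B)).Finite))
  exact RingHom.finite_algebraMap.2 ((Module.finite_iff_isArtinianRing (R := k) (A := B)).2 inferInstance)

end GrothLib.GenSubgrp14
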